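import Groth.Prelude.Def_W4stktopologysheavesBas
import Mathlib.Topology.Sheaves.LocalPredicate
import Mathlib.Topology.Sheaves.SheafCondition.Sites
import Mathlib.Topology.Sheaves.SheafCondition.UniqueGluing

/-! # Sheaves of sets on a basis -/

set_option autoImplicit false

universe u

open TopologicalSpace Opposite CategoryTheory

namespace Groth.Agent.ShBLib

variable {X : Type u} [TopologicalSpace X] {B : Set (Opens X)} (hB : Opens.IsBasis B)
  {F : ShB.Pre B}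

include hB in
lemma exists_mem_le (O : Opens X) (x : X) (hx : x ∈ O) :
    ∃ U : B, x ∈ (U : Opens X) ∧ (U : Opens X) ≤ O := by
  obtain ⟨U, hU, hxU, hUO⟩ := Opens.isBasis_iff_nbhd.1 hB hx
  exact ⟨⟨U, hU⟩, hxU, hUO⟩

section Core

variable (C : ∀ U : B, Set (ShB.Cover B)) (hCU : ∀ U, ∀ c ∈ C U, c.U = U)
  (hC : ∀ (U : B) (ι : Type u) (V : ι → B), (∀ i, (V i : Opens X) ≤ (U : Opens X)) →
    (U : Opens X) ≤ ⨆ i, (V i : Opens X) →
    ∃ c ∈ C U, ∀ i' : c.ι, ∃ i, (c.V i' : Opens X) ≤ (V i : Opens X))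
  (h : ∀ U, ∀ c ∈ C U, ∀ s : ∀ i, F.obj (c.V i),
    (∀ (i j : c.ι) (W : B) (h₁ : (W : Opens X) ≤ c.V i) (h₂ : (W : Opens X) ≤ c.V j),
      F.res h₁ (s i) = F.res h₂ (s j)) → ∃! t : F.obj c.U, ∀ i, F.res (c.V_le i) t = s i)

include hCU hC h in
lemma eq_of_locally_eq {U : B} (t t' : F.obj U)
    (hloc : ∀ x ∈ (U : Opens X), ∃ (V : B) (hV : (V : Opens X) ≤ U),
      x ∈ (V : Opens X) ∧ F.res hV t = F.res hV t') : t = t' := by
  choose V hV hx hres using fun x : (U : Opens X) => hloc x.1 x.2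
  obtain ⟨c, hc, href⟩ := hC U _ V hV (fun x hxU => Opens.mem_iSup.2 ⟨⟨x, hxU⟩, hx ⟨x, hxU⟩⟩)
  obtain rfl := hCU U c hc
  refine (h _ c hc (fun i => F.res (c.V_le i) t) fun i j W h₁ h₂ => by rw [F.res_comp, F.res_comp]).unique
    (fun i => rfl) fun i => ?_
  obtain ⟨k, hk⟩ := href i
  have e := congrArg (F.res hk) (hres k)
  rw [F.res_comp, F.res_comp] at e
  exact e.symm

include hB hCU hC h in
theorem isSheaf_of_cofinal : ShB.IsSheaf F := by
  intro c s hs
  have hsep := fun {U : B} (t t' : F.obj U) => eq_of_locally_eq C hCU hC h t t'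
  have hcomp : ∀ (i j : c.ι) (W : B) (h₁ : (W : Opens X) ≤ c.V i) (h₂ : (W : Opens X) ≤ c.V j),
      F.res h₁ (s i) = F.res h₂ (s j) := fun i j W h₁ h₂ => by
    refine hsep _ _ fun x hx => ?_
    obtain ⟨k, hk⟩ := Opens.mem_iSup.1 (c.W_cover i j ⟨h₁ hx, h₂ hx⟩)
    obtain ⟨V, hxV, hVle⟩ := exists_mem_le hB ((W : Opens X) ⊓ c.W i j k) x ⟨hx, hk⟩
    refine ⟨V, hVle.trans inf_le_left, hxV, ?_⟩
    rw [F.res_comp, F.res_comp]
    have e := congrArg (F.res (hVle.trans inf_le_right : (V : Opens X) ≤ c.W i j k)) (hs i j k)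
    rw [F.res_comp, F.res_comp] at e
    exact e
  obtain ⟨c', hc', href⟩ := hC c.U _ c.V c.V_le c.V_cover
  choose α hα using href
  have hU := hCU _ c' hc'
  obtain ⟨t, ht, -⟩ := h _ c' hc' (fun i' => F.res (hα i') (s (α i'))) fun i j W h₁ h₂ => by
    rw [F.res_comp, F.res_comp]
    exact hcomp _ _ W _ _
  have hle : (c.U : Opens X) ≤ (c'.U : Opens X) := (congrArg Subtype.val hU).ge
  refine ⟨F.res hle t, fun i => hsep _ _ fun x hx => ?_, fun t' ht' => hsep _ _ fun x hx => ?_⟩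
  · obtain ⟨i', hi'⟩ := Opens.mem_iSup.1 (c'.V_cover (hle (c.V_le i hx)))
    obtain ⟨V, hxV, hVle⟩ := exists_mem_le hB ((c'.V i' : Opens X) ⊓ c.V i) x ⟨hi', hx⟩
    refine ⟨V, hVle.trans inf_le_right, hxV, ?_⟩
    have e := congrArg (F.res (hVle.trans inf_le_left : (V : Opens X) ≤ c'.V i')) (ht i')
    rw [F.res_comp, F.res_comp] at e
    rw [F.res_comp, F.res_comp]
    exact e.trans (hcomp _ _ V _ _)
  · obtain ⟨i', hi'⟩ := Opens.mem_iSup.1 (c'.V_cover (hle hx))
    refine ⟨c'.V i', (hα i').trans (c.V_le _), hi', ?_⟩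
    rw [F.res_comp]
    refine Eq.trans ?_ (ht i').symm
    rw [← ht' (α i'), F.res_comp]

end Core

section Sheaf

variable (hF : ShB.IsSheaf F)

include hB hF in
lemma sheaf_sep {U : B} (t t' : F.obj U)
    (hloc : ∀ x ∈ (U : Opens X), ∃ (V : B) (hV : (V : Opens X) ≤ U),
      x ∈ (V : Opens X) ∧ F.res hV t = F.res hV t') : t = t' := by
  choose V hV hx hres using fun x : (U : Opens X) => hloc x.1 x.2
  let c : ShB.Cover B :=
    { U := U
      ι := ↥(U : Opens X)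
      V := V
      V_le := hV
      V_cover := fun x hxU => Opens.mem_iSup.2 ⟨⟨x, hxU⟩, hx ⟨x, hxU⟩⟩
      κ := fun i j => {W : B // (W : Opens X) ≤ V i ∧ (W : Opens X) ≤ V j}
      W := fun i j k => k.1
      W_le_left := fun i j k => k.2.1
      W_le_right := fun i j k => k.2.2
      W_cover := fun i j x hx => by
        obtain ⟨W, hxW, hW⟩ := exists_mem_le hB ((V i : Opens X) ⊓ V j) x hx
        exact Opens.mem_iSup.2 ⟨⟨W, hW.trans inf_le_left, hW.trans inf_le_right⟩, hxW⟩ }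
  exact (hF c (fun i => F.res (hV i) t) fun i j k => by rw [F.res_comp, F.res_comp]).unique
    (fun i => rfl) fun i => (hres i).symm

include hB in
lemma stalkRel_equivalence (x : X) : Equivalence (ShB.StalkRel F x) where
  refl a := ⟨a.1.1, a.1.2, le_refl _, le_refl _, rfl⟩
  symm := fun ⟨W, hW, ha, hb, e⟩ => ⟨W, hW, hb, ha, e.symm⟩
  trans := fun ⟨W, hW, ha, hb, e⟩ ⟨W', hW', hb', hc, e'⟩ => by
    obtain ⟨V, hxV, hV⟩ := exists_mem_le hB ((W : Opens X) ⊓ W') x ⟨hW, hW'⟩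
    refine ⟨V, hxV, (hV.trans inf_le_left).trans ha, (hV.trans inf_le_right).trans hc, ?_⟩
    have e1 := congrArg (F.res (hV.trans inf_le_left : (V : Opens X) ≤ W)) e
    have e2 := congrArg (F.res (hV.trans inf_le_right : (V : Opens X) ≤ W')) e'
    rw [F.res_comp, F.res_comp] at e1 e2
    exact e1.trans e2

include hB in
lemma germ_eq_iff {U U' : B} (x : X) (hx : x ∈ (U : Opens X)) (hx' : x ∈ (U' : Opens X))
    (s : F.obj U) (s' : F.obj U') : ShB.germ F x hx s = ShB.germ F x hx' s' ↔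
      ∃ (W : B) (_ : x ∈ (W : Opens X)) (ha : (W : Opens X) ≤ U) (hb : (W : Opens X) ≤ U'),
        F.res ha s = F.res hb s' :=
  ⟨fun e => (stalkRel_equivalence hB x).quot_mk_eq_iff _ _ |>.1 e, fun e => Quot.sound e⟩

lemma germ_res {U V : B} (h : (V : Opens X) ≤ U) (x : X) (hx : x ∈ (V : Opens X)) (s : F.obj U) :
    ShB.germ F x hx (F.res h s) = ShB.germ F x (h hx) s :=
  Quot.sound ⟨V, hx, le_refl _, h, by rw [F.res_id]⟩

include hB hF in
theorem germs_injective (U : B) :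
    Function.Injective (fun (s : F.obj U) (x : (U : Opens X)) => ShB.germ F x.1 x.2 s) := by
  intro s s' h
  refine sheaf_sep hB hF s s' fun x hx => ?_
  obtain ⟨W, hW, ha, _, e⟩ := (germ_eq_iff hB x hx hx s s').1 (congrFun h ⟨x, hx⟩)
  exact ⟨W, ha, hW, e⟩

/-- Families of germs which are locally sections. -/
def IsLocSec (F : ShB.Pre B) {U : Opens X} (f : ∀ x : U, ShB.Stalk F x.1) : Prop :=
  ∀ x : U, ∃ (V : B) (_ : x.1 ∈ (V : Opens X)) (hVU : (V : Opens X) ≤ U) (σ : F.obj V),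
    ∀ (y : X) (hy : y ∈ (V : Opens X)), ShB.germ F y hy σ = f ⟨y, hVU hy⟩

include hB hF in
theorem exists_section (U : B) (f : ∀ x : (U : Opens X), ShB.Stalk F x.1) (hf : IsLocSec F f) :
    ∃ s : F.obj U, ∀ x : (U : Opens X), ShB.germ F x.1 x.2 s = f x := by
  choose V hx hVU σ hσ using hf
  let c : ShB.Cover B :=
    { U := U
      ι := ↥(U : Opens X)
      V := V
      V_le := hVU
      V_cover := fun x hxU => Opens.mem_iSup.2 ⟨⟨x, hxU⟩, hx ⟨x, hxU⟩⟩
      κ := fun i j => {W : B // ∃ (h₁ : (W : Opens X) ≤ V i) (h₂ : (W : Opens X) ≤ V j),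
        F.res h₁ (σ i) = F.res h₂ (σ j)}
      W := fun i j k => k.1
      W_le_left := fun i j k => k.2.1
      W_le_right := fun i j k => k.2.2.1
      W_cover := fun i j x hx => by
        obtain ⟨W, hxW, ha, hb, e⟩ := (germ_eq_iff hB x hx.1 hx.2 (σ i) (σ j)).1
          ((hσ i x hx.1).trans (hσ j x hx.2).symm)
        exact Opens.mem_iSup.2 ⟨⟨W, ha, hb, e⟩, hxW⟩ }
  obtain ⟨t, ht, -⟩ := hF c σ fun i j k => k.2.2.2
  refine ⟨t, fun x => ?_⟩
  refine ((germ_res (hVU x) x.1 (hx x) t).symm.trans ?_).trans (hσ x x.1 (hx x))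
  exact congrArg (ShB.germ F x.1 (hx x)) (ht x)

lemma isLocSec_germs (U : B) (s : F.obj U) :
    IsLocSec F (fun x : (U : Opens X) => ShB.germ F x.1 x.2 s) :=
  fun x => ⟨U, x.2, le_refl _, s, fun _ _ => rfl⟩

/-- The local predicate of being locally a section. -/
def locSec (F : ShB.Pre B) (hB : Opens.IsBasis B) :
    TopCat.LocalPredicate (fun x : TopCat.of X => ShB.Stalk F x) where
  pred {U} f := IsLocSec F (U := U) f
  res {U V} i f hf := fun x => by
    obtain ⟨W, hxW, hWV, σ, hσ⟩ := hf ⟨x.1, i.le x.2⟩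
    obtain ⟨W', hxW', hW'⟩ := exists_mem_le hB ((W : Opens X) ⊓ U) x.1 ⟨hxW, x.2⟩
    refine ⟨W', hxW', hW'.trans inf_le_right, F.res (hW'.trans inf_le_left : (W' : Opens X) ≤ W) σ,
      fun y hy => ?_⟩
    rw [germ_res]
    exact hσ y ((hW'.trans inf_le_left : (W' : Opens X) ≤ W) hy)
  locality {U} f hf := fun x => by
    obtain ⟨V, hxV, i, hV⟩ := hf x
    obtain ⟨W, hxW, hWV, σ, hσ⟩ := hV ⟨x.1, hxV⟩
    exact ⟨W, hxW, hWV.trans i.le, σ, hσ⟩

end Sheaf

section Extend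

variable {G G' : TopCat.Sheaf (Type u) (TopCat.of X)}

include hB in
theorem exists_unique_hom
    (a : ∀ U : B, G.presheaf.obj (op (U : Opens X)) → G'.presheaf.obj (op (U : Opens X)))
    (ha : ∀ {U V : B} (h : (V : Opens X) ≤ U) (s : G.presheaf.obj (op (U : Opens X))),
      G'.presheaf.map (homOfLE h).op (a U s) = a V (G.presheaf.map (homOfLE h).op s)) :
    ∃! φ : G ⟶ G', ∀ (U : B) (s : G.presheaf.obj (op (U : Opens X))),
      φ.1.app (op (U : Opens X)) s = a U s := by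
  have hB' : Opens.IsBasis (Set.range (Subtype.val : B → Opens X)) := by rwa [Subtype.range_coe]
  let α : (inducedFunctor (Subtype.val : B → Opens X)).op ⋙ G.1 ⟶
      (inducedFunctor (Subtype.val : B → Opens X)).op ⋙ G'.1 :=
    { app := fun U => TypeCat.ofHom (a U.unop)
      naturality := fun U V f => by
        ext s
        exact (ha f.unop.hom.le s).symm }
  refine ⟨⟨TopCat.Sheaf.restrictHomEquivHom G.1 G' hB' α⟩, fun U s => ?_, fun φ hφ => ?_⟩
  · exact ConcreteCategory.congr_hom (TopCat.Sheaf.extend_hom_app G.1 G' hB' α U) s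
  · refine CategoryTheory.Sheaf.hom_ext ?_
    refine TopCat.Sheaf.hom_ext G.1 G' hB' fun U => ?_
    rw [TopCat.Sheaf.extend_hom_app]
    ext s
    exact hφ U s

end Extend

end Groth.Agent.ShBLib
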