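import Groth.Agent.ShBLib.Basic

/-! # Extending sheaves and morphisms from a basis -/

set_option autoImplicit false

universe u

open TopologicalSpace Opposite CategoryTheory

namespace Groth.Agent.ShBLib

variable {X : Type u} [TopologicalSpace X] {B : Set (Opens X)} (hB : Opens.IsBasis B)
  (F : ShB.Pre B)

include hB in
theorem exists_extension (hF : ShB.IsSheaf F) :
    ∃ G : TopCat.Sheaf (Type u) (TopCat.of X), Nonempty (ShB.Iso (ShB.restrict B G.presheaf) F) := by
  let G := TopCat.subsheafToTypes (locSec F hB)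
  refine ⟨G, ⟨?_⟩⟩
  have hex : ∀ (U : B) (f : G.presheaf.obj (op (U : Opens X))),
      ∃ s : F.obj U, ∀ x : (U : Opens X), ShB.germ F x.1 x.2 s = f.1 x := fun U f =>
    exists_section hB hF U f.1 f.2
  exact
    { hom :=
        { app := fun U f => (hex U f).choose
          natural := fun {U V} h f => germs_injective hB hF V (funext fun x => by
            refine (germ_res h x.1 x.2 _).trans ?_
            exact ((hex U f).choose_spec ⟨x.1, h x.2⟩).trans
              ((hex V ((ShB.restrict B G.presheaf).res h f)).choose_spec x).symm) }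
      inv :=
        { app := fun U s => ⟨fun x => ShB.germ F x.1 x.2 s, isLocSec_germs U s⟩
          natural := fun {U V} h s => Subtype.ext (funext fun x => (germ_res h x.1 x.2 s).symm) }
      hom_inv := fun U f => Subtype.ext (funext fun x => (hex U f).choose_spec x)
      inv_hom := fun U s => germs_injective hB hF U (funext fun x => (hex U _).choose_spec x) }

include hB in
theorem existsUnique_iso (G G' : TopCat.Sheaf (Type u) (TopCat.of X))
    (e : ShB.Iso (ShB.restrict B G.presheaf) F) (e' : ShB.Iso (ShB.restrict B G'.presheaf) F) :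
    ∃! φ : G ⟶ G', IsIso φ ∧ ∀ (U : B) (s : G.presheaf.obj (op (U : Opens X))),
      e'.hom.app U (φ.1.app (op (U : Opens X)) s) = e.hom.app U s := by
  obtain ⟨φ, hφ, hu⟩ := exists_unique_hom hB (G := G) (G' := G')
    (fun U s => e'.inv.app U (e.hom.app U s))
    (fun {U V} h s => (e'.inv.natural h _).trans (congrArg (e'.inv.app V) (e.hom.natural h s)))
  obtain ⟨ψ, hψ, -⟩ := exists_unique_hom hB (G := G') (G' := G)
    (fun U s => e.inv.app U (e'.hom.app U s))
    (fun {U V} h s => (e.inv.natural h _).trans (congrArg (e.inv.app V) (e'.hom.natural h s)))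
  have h1 : φ ≫ ψ = 𝟙 G := by
    refine (exists_unique_hom hB (G := G) (G' := G) (fun U s => s) (fun h s => rfl)).unique
      (fun U s => ?_) (fun U s => rfl)
    refine (congrArg (ψ.1.app _) (hφ U s)).trans ((hψ U _).trans ?_)
    exact (congrArg (e.inv.app U) (e'.inv_hom U _)).trans (e.hom_inv U s)
  have h2 : ψ ≫ φ = 𝟙 G' := by
    refine (exists_unique_hom hB (G := G') (G' := G') (fun U s => s) (fun h s => rfl)).unique
      (fun U s => ?_) (fun U s => rfl)
    refine (congrArg (φ.1.app _) (hψ U s)).trans ((hφ U _).trans ?_)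
    exact (congrArg (e'.inv.app U) (e.inv_hom U _)).trans (e'.hom_inv U s)
  refine ⟨φ, ⟨⟨ψ, h1, h2⟩, fun U s => ?_⟩, fun χ hχ => hu χ fun U s => ?_⟩
  · exact (congrArg (e'.hom.app U) (hφ U s)).trans (e'.inv_hom U _)
  · exact (e'.hom_inv U (χ.1.app (op (U : Opens X)) s)).symm.trans (congrArg (e'.inv.app U) (hχ.2 U s))

end Groth.Agent.ShBLib
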